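import Groth.Agent.EGA43.ConnFlat.Main
import Groth.Agent.EGA43.ConnCount.ComplNowhereDense
import Groth.Agent.FlatMor12.GenericSmooth
import Groth.Agent.H8Lim.UniversallyOpen
import Groth.Agent.Props12.Stalks
import Groth.Agent.H8Lim.MaxPoints

/-!
# Complements of nowhere dense sets under flat morphisms with geometrically reduced fibres (EGA IV 18.9)
-/

set_option autoImplicit false
set_option backward.isDefEq.respectTransparency false
set_option linter.style.haveILetI false

universe u

open CategoryTheory CategoryTheory.Limits AlgebraicGeometry TopologicalSpace IsLocalRing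

namespace Groth.Agent.EGA43.UnibranchFibre

open Groth.Agent

theorem geometricallyReduced_stalk {X Y : Scheme.{u}} (f : X ⟶ Y) [GeometricallyReduced f] (x : X) :
    GeometricallyReduced (Spec.map (f.stalkMap x)) := by
  rw [GeometricallyReduced.eq_geometrically]
  intro K _ a P fst snd h
  let i := Y.fromSpecStalk (f x)
  let W := pullback f (a ≫ i)
  haveI : IsReduced W := GeometricallyReduced.geometrically_isReduced _ _ _ (IsPullback.of_hasPullback f (a ≫ i))
  haveI := FlatMor12.GenericSmooth.isReduced_pullback_fromSpecStalk (pullback.fst f (a ≫ i)) x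
  let P' := pullback (pullback.fst f (a ≫ i)) (X.fromSpecStalk x)
  have h1 : IsPullback (pullback.snd (pullback.fst f (a ≫ i)) (X.fromSpecStalk x))
      (pullback.fst (pullback.fst f (a ≫ i)) (X.fromSpecStalk x) ≫ pullback.snd f (a ≫ i))
      (Spec.map (f.stalkMap x) ≫ i) (a ≫ i) := by
    rw [Scheme.SpecMap_stalkMap_fromSpecStalk]
    exact (IsPullback.of_hasPullback _ (X.fromSpecStalk x)).flip.paste_vert (IsPullback.of_hasPullback f (a ≫ i))
  have h2 := H8Lim.isPullback_of_comp_mono _ _ i h1
  exact isReduced_of_isOpenImmersion (h.isoIsPullback _ _ h2).hom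

theorem hloc_of_isLocallyNoetherian (X : Scheme.{u}) [IsLocallyNoetherian X] :
    ∀ x : X, ∃ U ∈ nhds x, NoetherianSpace ↥U := fun x => by
  obtain ⟨_, ⟨(U : X.Opens), hU, rfl⟩, hxU, -⟩ :=
    X.isBasis_affineOpens.exists_subset_of_mem_open (Set.mem_univ x) isOpen_univ
  haveI : IsAffine (U : Scheme.{u}) := hU
  haveI : CompactSpace ↥U := isCompact_iff_compactSpace.1 hU.isCompact
  haveI : IsNoetherian (U : Scheme.{u}) := { }
  exact ⟨U, U.isOpen.mem_nhds hxU, inferInstanceAs (NoetherianSpace ↥(U : Scheme.{u}))⟩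

/-- A closed set through a maximal point has interior. -/
theorem mem_interior_of_maximal {Y : Scheme.{u}} [IsLocallyNoetherian Y] {C : Set Y} (hC : IsClosed C) {y : Y}
    (hy : y ∈ C) (hmax : ∀ z : Y, z ⤳ y → z = y) : y ∈ interior C := by
  refine interior_mono (hC.closure_subset_iff.2 (Set.singleton_subset_iff.2 hy)) ?_
  by_contra h
  rw [interior_eq_compl_closure_compl, Set.notMem_compl_iff] at h
  obtain ⟨z, hz, hzy⟩ := ConnCount.exists_mem_specializes_of_mem_closure (hloc_of_isLocallyNoetherian Y)
    isClosed_closure.isOpen_compl h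
  exact hz (hmax z hzy ▸ subset_closure rfl)

theorem isConnected_compl_of_flat {X Y : Scheme.{u}} [IsLocallyNoetherian X] [IsLocallyNoetherian Y]
    [ConnectedSpace ↥X] (hY : ∀ y : Y, CAlg2.IsGeomUnibranch (Y.presheaf.stalk y))
    (f : X ⟶ Y) [Flat f] [GeometricallyReduced f]
    (T : Set ↥X) (hT : IsClosed T) (hT' : interior (closure (f.base '' T)) = ∅) : _root_.IsConnected Tᶜ := by
  have hnm : ∀ x ∈ T, ∃ z : Y, z ⤳ f x ∧ z ≠ f x := fun x hx => by
    by_contra h
    push Not at h
    exact (hT'.le (mem_interior_of_maximal isClosed_closure (subset_closure ⟨x, hx, rfl⟩) h)).elim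
  have hn : IsNowhereDense T := by
    rw [hT.isNowhereDense_iff, ← Set.not_nonempty_iff_eq_empty]
    rintro ⟨x, hx⟩
    obtain ⟨z, hzx, hne⟩ := hnm x (interior_subset hx)
    obtain ⟨x', hx', hfx'⟩ := Flat.generalizingMap f hzx
    obtain ⟨η, hη, hmax⟩ := H8Lim.exists_isMaxPt_specializes x'
    have hηT : η ∈ T := interior_subset ((hmax.trans hx').mem_open isOpen_interior hx)
    obtain ⟨z', hz', hne'⟩ := hnm η hηT
    obtain ⟨w, hw, hfw⟩ := Flat.generalizingMap f hz'
    exact hne' ((congrArg f (hη w hw)).symm.trans hfw).symm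
  refine ConnCount.isConnected_compl (hloc_of_isLocallyNoetherian X) T hT hn fun x hx => ?_
  let φ := f.stalkMap x
  let A : Type u := Y.presheaf.stalk (f x)
  let B : Type u := X.presheaf.stalk x
  letI : Algebra A B := φ.hom.toAlgebra
  haveI : IsLocalHom (algebraMap A B) := inferInstanceAs (IsLocalHom φ.hom)
  haveI : Module.Flat A B := Flat.stalkMap f x
  haveI : IsNoetherianRing A := inferInstanceAs (IsNoetherianRing (Y.presheaf.stalk (f x)))
  haveI : IsNoetherianRing B := inferInstanceAs (IsNoetherianRing (X.presheaf.stalk x))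
  haveI : GeometricallyReduced (Spec.map (CommRingCat.ofHom (algebraMap A B))) := geometricallyReduced_stalk f x
  have hconn := EGA43.ConnFlat.isConnected_compl A B (hY (f x)) {closedPoint B} (by
    rw [Set.image_singleton, IsLocalRing.comap_closedPoint (algebraMap A B), PrimeSpectrum.closure_singleton,
      show PrimeSpectrum.zeroLocus ((closedPoint A).asIdeal : Set A) = {closedPoint A} from
        PrimeSpectrum.zeroLocus_eq_singleton (maximalIdeal A),
      ← Set.not_nonempty_iff_eq_empty]
    rintro ⟨p, hp⟩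
    obtain rfl : p = closedPoint A := Set.mem_singleton_iff.1 (interior_subset hp)
    obtain ⟨z, hz, hne⟩ := hnm x hx
    obtain ⟨a, ha⟩ := (Y.range_fromSpecStalk (x := f x)).ge hz
    have hac : (a : PrimeSpectrum A) ⤳ closedPoint A := IsLocalRing.specializes_closedPoint _
    have := Set.mem_singleton_iff.1 (interior_subset (hac.mem_open isOpen_interior hp))
    exact hne (ha.symm.trans ((congrArg (Y.fromSpecStalk (f x)) this).trans Scheme.fromSpecStalk_closedPoint)))
  have himg : ({x' : X | x' ⤳ x} \ {x} : Set X) = X.fromSpecStalk x '' ({closedPoint B} : Set (PrimeSpectrum B))ᶜ := by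
    ext w
    constructor
    · rintro ⟨hw, hwx⟩
      obtain ⟨b, rfl⟩ := (X.range_fromSpecStalk (x := x)).ge hw
      refine ⟨b, fun hb => hwx ?_, rfl⟩
      rw [Set.mem_singleton_iff.1 hb]
      exact Scheme.fromSpecStalk_closedPoint
    · rintro ⟨b, hb, rfl⟩
      refine ⟨(X.range_fromSpecStalk (x := x)).le ⟨b, rfl⟩, fun h => hb ?_⟩
      exact (X.fromSpecStalk x).isEmbedding.injective (Set.mem_singleton_iff.1 h |>.trans
        (Scheme.fromSpecStalk_closedPoint (X := X) (x := x)).symm)
  rw [himg]
  exact hconn.isPreconnected.image _ (X.fromSpecStalk x).continuous.continuousOn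

end Groth.Agent.EGA43.UnibranchFibre
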