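import Groth.Prelude.Def_CAlg2
import Groth.Agent.S8533
import Groth.Agent.S4773
import Groth.Agent.EGA43.ProperDvr.FlatDvr
import Groth.Agent.Props12.Stalks
import Groth.Agent.HenselLib.LocalHens
import Groth.Agent.HenselLib.HullFlat
import Groth.Agent.FlatMorWeight.GeomUnibranch

/-!
# Connected fibres over geometrically unibranch points (EGA IV 15.7.3 / Zariski)

After base change to the strict Henselization the generic fibre is dense, so the total space and hence the
closed fibre are connected.
-/

set_option autoImplicit false
set_option backward.isDefEq.respectTransparency false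
set_option linter.style.haveILetI false

universe u

open CategoryTheory CategoryTheory.Limits AlgebraicGeometry TopologicalSpace IsLocalRing

namespace Groth.Agent.EGA43.UnibranchFibre

open Groth.Agent HenselLib

/-- Over the strict Henselization of a geometrically unibranch domain there is one point over the generic point. -/
theorem existsUnique_prime_localSH (A : Type u) [CommRing A] [IsDomain A] [IsLocalRing A]
    (hA : CAlg2.IsGeomUnibranch A) :
    ∃! P : PrimeSpectrum (LocalSH A), P.asIdeal.comap (algebraMap A (LocalSH A)) = ⊥ := by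
  classical
  haveI : Module.FaithfullyFlat A (LocalSH A) := Module.FaithfullyFlat.of_flat_of_isLocalHom
  obtain ⟨P, hP⟩ := PrimeSpectrum.comap_surjective_of_faithfullyFlat (B := LocalSH A)
    (⟨⊥, Ideal.isPrime_bot⟩ : PrimeSpectrum A)
  refine ⟨P, congrArg PrimeSpectrum.asIdeal hP, fun Q hQ => ?_⟩
  have hnil : nilradical A = ⊥ := nilradical_eq_zero A
  have key : ∀ P Q : PrimeSpectrum (LocalSH A), P.asIdeal.comap (algebraMap A (LocalSH A)) = ⊥ →
      Q.asIdeal.comap (algebraMap A (LocalSH A)) = ⊥ → P.asIdeal ≤ Q.asIdeal := by
    intro P Q hP hQ x hx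
    obtain ⟨T, y, rfl⟩ := exists_rep x
    haveI : (RingHom.ker T.pt).IsPrime := RingHom.ker_isPrime _
    have hle : ∀ R : PrimeSpectrum (LocalSH A), R.asIdeal.comap (ι T).toRingHom ≤ RingHom.ker T.pt := fun R z hz => by
      have h1 : ι T z ∈ RingHom.ker (hullPt A (SepRes A)) := by
        rw [← maximalIdeal_hull]
        exact IsLocalRing.le_maximalIdeal R.2.ne_top hz
      rwa [RingHom.mem_ker, hullPt_ι] at h1
    have hcm : ∀ R : PrimeSpectrum (LocalSH A), R.asIdeal.comap (algebraMap A (LocalSH A)) = ⊥ →
        (R.asIdeal.comap (ι T).toRingHom).comap (algebraMap A T.Ring) = nilradical A := fun R hR => by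
      rw [hnil, ← hR]
      ext a
      show ι T (algebraMap A T.Ring a) ∈ R.asIdeal ↔ _
      rw [(ι T).commutes]
      rfl
    have hq : (RingHom.ker T.pt).comap (algebraMap A T.Ring) = maximalIdeal A := by
      ext a
      show T.pt (algebraMap A T.Ring a) = 0 ↔ _
      rw [T.pt.commutes, IsLocalRing.mem_maximalIdeal, mem_nonunits_iff,
        ← isUnit_map_iff (algebraMap A (SepRes A)) a, isUnit_iff_ne_zero, not_not]
    have heq := FlatMorWeight.eq_of_le_of_etale hA (RingHom.ker T.pt) hq (P.asIdeal.comap (ι T).toRingHom)
      (Q.asIdeal.comap (ι T).toRingHom) (hle P) (hle Q) (hcm P hP) (hcm Q hQ)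
    exact (SetLike.ext_iff.1 heq y).1 hx
  exact PrimeSpectrum.ext (le_antisymm (key Q P hQ (congrArg PrimeSpectrum.asIdeal hP))
    (key P Q (congrArg PrimeSpectrum.asIdeal hP) hQ))

/-- Connectedness of the closed fibre when the generic point is the only one over the generic point. -/
theorem connectedSpace_closedFibre {X S : Scheme.{u}} (f : X ⟶ S) [IsProper f] [IsDominant f]
    [IsIntegral X] [IsIntegral S] (hη : GeometricallyConnected (f.fiberToSpecResidueField (genericPoint S)))
    (H : Type u) [CommRing H] [HenselianLocalRing H] (g : Spec (CommRingCat.of H) ⟶ S) [Flat g]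
    (huniq : ∀ p q : Spec (CommRingCat.of H), g p = genericPoint S → g q = genericPoint S → p = q) :
    ConnectedSpace ↥(pullback f (Spec.map (CommRingCat.ofHom (residue H)) ≫ g)) := by
  classical
  let π := pullback.snd f g
  haveI hsurj : Surjective f := ⟨by
    intro z
    have hd : Dense (Set.range f) := f.denseRange
    have := hd.closure_eq
    rw [f.isClosedMap.isClosed_range.closure_eq] at this
    exact this.ge (Set.mem_univ z)⟩
  haveI : Surjective π := inferInstanceAs (Surjective (pullback.snd f g))
  have hfgen : f (genericPoint X) = genericPoint S := by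
    have h := (genericPoint_spec X).image f.continuous
    rw [Set.image_univ, f.denseRange.closure_eq] at h
    exact h.eq (genericPoint_spec S)
  obtain ⟨t, -, ht⟩ := (Flat.generalizingMap g) (genericPoint_specializes (g (closedPoint H)))
  haveI : ConnectedSpace ↥(pullback π ((Spec (CommRingCat.of H)).fromSpecResidueField t)) := by
    haveI := hη
    haveI := ProperDvr.connectedSpace_pullback_of_geomConnected f (genericPoint S)
      ((Spec (CommRingCat.of H)).fromSpecResidueField t ≫ g) (by
        exact (congrArg g (Scheme.fromSpecResidueField_apply t _)).trans ht)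
    let e := (IsPullback.of_hasPullback π ((Spec (CommRingCat.of H)).fromSpecResidueField t)).paste_horiz
      (IsPullback.of_hasPullback f g)
    exact e.isoPullback.inv.homeomorph.surjective.connectedSpace e.isoPullback.inv.continuous
  have hconn : _root_.IsConnected (π ⁻¹' {t} : Set ↥(pullback f g)) := by
    have := isConnected_range (pullback.fst π ((Spec (CommRingCat.of H)).fromSpecResidueField t)).continuous
    rwa [Scheme.Pullback.range_fst, Scheme.range_fromSpecResidueField] at this
  haveI : ConnectedSpace ↥(pullback f g) := by
    have hdense : closure (π ⁻¹' {t} : Set ↥(pullback f g)) = Set.univ := by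
      refine Set.eq_univ_of_forall fun y => ?_
      obtain ⟨y', hy', hfy⟩ := (Flat.generalizingMap (pullback.fst f g))
        (genericPoint_specializes (pullback.fst f g y))
      refine hy'.mem_closed isClosed_closure (subset_closure (huniq _ _ ?_ ht))
      show g (pullback.snd f g y') = _
      rw [← Scheme.Hom.comp_apply, ← pullback.condition, Scheme.Hom.comp_apply, hfy, hfgen]
    exact connectedSpace_iff_univ.2 (hdense ▸ hconn.closure)
  let c : ↥(Spec (CommRingCat.of H)) := (closedPoint H : PrimeSpectrum H)
  have hb := S8533.result H π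
  haveI : PreconnectedSpace ↥(π.fiber c) := by
    refine ⟨isPreconnected_of_forall_pair fun x _ y _ => ⟨connectedComponent x, Set.subset_univ _,
      mem_connectedComponent, ?_, isPreconnected_connectedComponent⟩⟩
    exact ConnectedComponents.coe_eq_coe'.1 (hb.1 (ConnectedComponents.coe_eq_coe.2
      (by rw [PreconnectedSpace.connectedComponent_eq_univ, PreconnectedSpace.connectedComponent_eq_univ])))
  have hne : Nonempty ↥(π.fiber c) := by
    obtain ⟨y, hy⟩ := π.surjective c
    exact ⟨(π.fiberHomeo c).symm ⟨y, hy⟩⟩
  have hconn' : _root_.IsConnected (π ⁻¹' {c} : Set ↥(pullback f g)) := by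
    haveI : ConnectedSpace ↥(π.fiber c) := ⟨hne⟩
    have := isConnected_range (π.fiberι c).continuous
    rwa [π.range_fiberι] at this
  let r := Spec.map (CommRingCat.ofHom (residue H))
  haveI : IsClosedImmersion r := IsClosedImmersion.spec_of_surjective _ residue_surjective
  have hr : Set.range r = {c} := by
    have h := range_comap_of_surjective _ (residue H) residue_surjective
    rw [IsLocalRing.ker_residue, PrimeSpectrum.zeroLocus_eq_singleton] at h
    exact h
  haveI : ConnectedSpace ↥(pullback π r) := by
    let ee := (pullback.fst π r).isEmbedding.toHomeomorph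
    haveI : ConnectedSpace ↥(Set.range (pullback.fst π r)) := by
      rw [Scheme.Pullback.range_fst, hr]
      exact isConnected_iff_connectedSpace.1 hconn'
    exact ee.symm.surjective.connectedSpace ee.symm.continuous
  let e := (IsPullback.of_hasPullback π r).paste_horiz (IsPullback.of_hasPullback f g)
  exact e.isoPullback.hom.homeomorph.surjective.connectedSpace e.isoPullback.hom.continuous

/-- A fibre is geometrically connected if it is connected over some separably closed point. -/
theorem geometricallyConnected_fibre_of_sepClosed {X S : Scheme.{u}} (f : X ⟶ S) [QuasiCompact f] (s : S)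
    (Ω : Type u) [Field Ω] [IsSepClosed Ω] (k : Spec (CommRingCat.of Ω) ⟶ S) (hk : k (closedPoint Ω) = s)
    [ConnectedSpace ↥(pullback f k)] : GeometricallyConnected (f.fiberToSpecResidueField s) := by
  obtain ⟨φ, rfl⟩ := ProperDvr.exists_factor k s hk
  haveI : CompactSpace ↥(f.fiber s) := QuasiCompact.compactSpace_of_compactSpace (f.fiberToSpecResidueField s)
  refine (S4773.result (k := S.residueField s) (f.fiberToSpecResidueField s)).2 fun K _ _ _ _ => ?_
  letI : Algebra (S.residueField s) Ω := φ.hom.toAlgebra
  let j : K →ₐ[S.residueField s] Ω := IsSepClosed.lift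
  let fs := f.fiberToSpecResidueField s
  let bK := Spec.map (CommRingCat.ofHom (algebraMap (S.residueField s) K))
  let bj := Spec.map (CommRingCat.ofHom j.toRingHom)
  have hcomp : bj ≫ bK = Spec.map φ := by
    rw [← Spec.map_comp]
    congr 1
    ext x
    exact j.commutes x
  haveI : Surjective bj := ⟨fun z => ⟨(⟨⊥, Ideal.isPrime_bot⟩ : PrimeSpectrum Ω), PrimeSpectrum.ext
    ((Ideal.eq_bot_or_top _).resolve_right (Ideal.IsPrime.ne_top inferInstance) |>.trans
      ((Ideal.eq_bot_or_top _).resolve_right (z : PrimeSpectrum K).2.ne_top).symm)⟩⟩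
  haveI : ConnectedSpace ↥(pullback (pullback.snd fs bK) bj) := by
    let e := ((IsPullback.of_hasPullback (pullback.snd fs bK) bj).paste_horiz
      (IsPullback.of_hasPullback fs bK)).paste_horiz
      (IsPullback.of_hasPullback f (S.fromSpecResidueField s))
    let i := e.isoPullback ≪≫ pullback.congrHom rfl (by rw [hcomp] : (bj ≫ bK) ≫ S.fromSpecResidueField s = _)
    exact i.inv.homeomorph.surjective.connectedSpace i.inv.continuous
  exact (pullback.fst (pullback.snd fs bK) bj).surjective.connectedSpace
    (pullback.fst (pullback.snd fs bK) bj).continuous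

theorem geometricallyConnected_of_geomUnibranch {X S : Scheme.{u}} (f : X ⟶ S) [IsProper f] [IsDominant f]
    [IsIntegral X] [IsIntegral S] (s : S) (hS : CAlg2.IsGeomUnibranch (S.presheaf.stalk s))
    (hη : GeometricallyConnected (f.fiberToSpecResidueField (genericPoint S))) :
    GeometricallyConnected (f.fiberToSpecResidueField s) := by
  classical
  let A : Type u := S.presheaf.stalk s
  let H := LocalSH A
  let a := Spec.map (CommRingCat.ofHom (algebraMap A H))
  let g : Spec (CommRingCat.of H) ⟶ S := a ≫ S.fromSpecStalk s
  haveI : Flat a := (HasRingHomProperty.Spec_iff (P := @Flat)).2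
    (RingHom.flat_algebraMap_iff.2 (flat_hull (R := A) (K := SepRes A)))
  haveI : Flat (S.fromSpecStalk s) := Props12.flat_fromSpecStalk s
  obtain ⟨P₀, hP₀, huniq⟩ := existsUnique_prime_localSH A hS
  have hgen : ∀ p : Spec (CommRingCat.of H), g p = genericPoint S → p = (P₀ : PrimeSpectrum H) := by
    intro p hp
    refine huniq p ?_
    let z : ↥(Spec (S.presheaf.stalk s)) := (⟨⊥, Ideal.isPrime_bot⟩ : PrimeSpectrum A)
    have hz : z ⤳ a p := (PrimeSpectrum.le_iff_specializes (R := A) ⟨⊥, Ideal.isPrime_bot⟩ (a p)).1 bot_le
    have hgz : S.fromSpecStalk s z = genericPoint S :=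
      ((hz.map (S.fromSpecStalk s).continuous).trans (specializes_of_eq hp)).antisymm
        (genericPoint_specializes _) |>.eq
    have h : z = a p := (S.fromSpecStalk s).isEmbedding.injective
      (hgz.trans (hp.symm.trans (Scheme.Hom.comp_apply a _ p)))
    exact (congrArg PrimeSpectrum.asIdeal h).symm
  haveI := connectedSpace_closedFibre f hη H g fun p q hp hq => (hgen p hp).trans (hgen q hq).symm
  haveI : IsSepClosed (ResidueField H) := (isSepClosure_residueField_localSH (R := A)).sep_closed
  refine geometricallyConnected_fibre_of_sepClosed f s (ResidueField H)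
    (Spec.map (CommRingCat.ofHom (residue H)) ≫ g) ?_
  rw [Scheme.Hom.comp_apply, Scheme.Hom.comp_apply]
  have h : a (Spec.map (CommRingCat.ofHom (residue H)) (closedPoint (ResidueField H))) =
      closedPoint (S.presheaf.stalk s) := by
    exact (congrArg (PrimeSpectrum.comap (algebraMap A H)) (IsLocalRing.comap_closedPoint (residue H))).trans
      (IsLocalRing.comap_closedPoint (algebraMap A H))
  exact (congrArg (S.fromSpecStalk s) h).trans Scheme.fromSpecStalk_closedPoint

end Groth.Agent.EGA43.UnibranchFibre
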