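import Groth.Prelude.Def_Flat
import Groth.Agent.UnivHomeo.Scheme
import Mathlib.AlgebraicGeometry.Normalization
import Mathlib.AlgebraicGeometry.Morphisms.Proper
import Mathlib.AlgebraicGeometry.Geometrically.Connected
import Mathlib.RingTheory.Spectrum.Prime.Noetherian

/-!
# The finite part of the Stein factorization of a morphism with geometrically connected fibres
-/

set_option autoImplicit false
set_option backward.isDefEq.respectTransparency false
set_option linter.style.haveILetI false

universe u

open CategoryTheory CategoryTheory.Limits AlgebraicGeometry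

namespace Groth.Agent.EGA43.UnibranchFibre

open Groth.Agent

/-- An algebraic algebra over a field with connected spectrum has one prime. -/
theorem subsingleton_spectrum_of_isIntegral (K R : Type u) [Field K] [CommRing R] [Algebra K R]
    [Algebra.IsIntegral K R] [ConnectedSpace (PrimeSpectrum R)] : Subsingleton (PrimeSpectrum R) := by
  refine ⟨fun p q => PrimeSpectrum.ext (Ideal.ext fun x => ?_)⟩
  let S := Algebra.adjoin K ({x} : Set R)
  haveI : Module.Finite K S :=
    Module.Finite.iff_fg.2 (fg_adjoin_of_finite (Set.finite_singleton x) fun y _ => Algebra.IsIntegral.isIntegral y)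
  haveI : IsArtinianRing S := IsArtinianRing.of_finite K S
  haveI : Algebra.IsIntegral S R := Algebra.IsIntegral.tower_top (R := K)
  have hsurj : Function.Surjective (PrimeSpectrum.comap (algebraMap S R)) := by
    intro P
    obtain ⟨Q, hQ, hQP⟩ := Ideal.exists_ideal_over_prime_of_isIntegral P.asIdeal (⊥ : Ideal R) (by
      rw [show (⊥ : Ideal R).comap (algebraMap S R) = ⊥ from Ideal.comap_bot_of_injective _ Subtype.val_injective]
      exact bot_le)
    exact ⟨⟨Q, hQP.1⟩, PrimeSpectrum.ext hQP.2⟩
  haveI : ConnectedSpace (PrimeSpectrum S) := hsurj.connectedSpace (PrimeSpectrum.continuous_comap _)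
  haveI : Subsingleton (PrimeSpectrum S) := ⟨fun _ _ => PreconnectedSpace.constant inferInstance continuous_id⟩
  have h := congrArg PrimeSpectrum.asIdeal
    (Subsingleton.elim (PrimeSpectrum.comap (algebraMap S R) p) (PrimeSpectrum.comap (algebraMap S R) q))
  exact SetLike.ext_iff.1 h ⟨x, Algebra.subset_adjoin rfl⟩

theorem subsingleton_of_isIntegralHom {Q : Scheme.{u}} {K : Type u} [Field K] (q : Q ⟶ Spec (CommRingCat.of K))
    [IsIntegralHom q] [ConnectedSpace ↥Q] : Subsingleton ↥Q := by
  haveI : IsAffine Q := isAffine_of_isAffineHom q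
  let ψ : CommRingCat.of K ⟶ Γ(Q, ⊤) := Spec.preimage (Q.isoSpec.inv ≫ q)
  have hψ : Spec.map ψ = Q.isoSpec.inv ≫ q := Spec.map_preimage _
  letI : Algebra K Γ(Q, ⊤) := ψ.hom.toAlgebra
  haveI : Algebra.IsIntegral K Γ(Q, ⊤) := algebraMap_isIntegral_iff.1 (by
    have h : IsIntegralHom (Spec.map ψ) := hψ ▸ inferInstance
    exact (IsIntegralHom.SpecMap_iff (φ := ψ)).1 h)
  haveI : ConnectedSpace (PrimeSpectrum Γ(Q, ⊤)) :=
    Q.isoSpec.hom.homeomorph.surjective.connectedSpace Q.isoSpec.hom.continuous
  haveI := subsingleton_spectrum_of_isIntegral K Γ(Q, ⊤)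
  haveI : Subsingleton ↥(Spec Γ(Q, ⊤)) := ‹Subsingleton (PrimeSpectrum Γ(Q, ⊤))›
  exact Q.isoSpec.hom.homeomorph.injective.subsingleton

theorem isUnivHomeo_fromNormalization {X S : Scheme.{u}} (f : X ⟶ S) [IsProper f] [GeometricallyConnected f] :
    FlatMor.IsUnivHomeo f.fromNormalization := by
  let g := f.fromNormalization
  let t := f.toNormalization
  haveI : UniversallyClosed t := by
    haveI : UniversallyClosed (t ≫ g) := by
      rw [show t ≫ g = f from f.toNormalization_fromNormalization]; infer_instance
    exact UniversallyClosed.of_comp_of_isSeparated t g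
  haveI ht : Surjective t := ⟨fun z => by
    have h := (Scheme.Hom.denseRange t).closure_eq
    rw [t.isClosedMap.isClosed_range.closure_eq] at h
    exact h.ge (Set.mem_univ z)⟩
  haveI : Surjective g := ⟨fun y => by
    obtain ⟨x, hx⟩ := f.surjective y
    exact ⟨t x, by rw [← Scheme.Hom.comp_apply, show t ≫ g = f from f.toNormalization_fromNormalization, hx]⟩⟩
  haveI : UniversallyInjective g := ⟨fun {P Z} i₁ j q h a b hab => by
    let r := Z.fromSpecResidueField (q a)
    have ha : q a ∈ Set.range r := by rw [Scheme.range_fromSpecResidueField]; rfl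
    obtain ⟨a', ha'⟩ : a ∈ Set.range (pullback.fst q r) := by rw [Scheme.Pullback.range_fst]; exact ha
    obtain ⟨b', hb'⟩ : b ∈ Set.range (pullback.fst q r) := by
      rw [Scheme.Pullback.range_fst]; exact (congrArg (· ∈ Set.range r) hab).mp ha
    let e := (IsPullback.of_hasPullback q r).paste_horiz h.flip
    haveI : Subsingleton ↥(pullback g (r ≫ j)) := by
      haveI : ConnectedSpace ↥(pullback t (pullback.fst g (r ≫ j))) := by
        have e2 := (IsPullback.of_hasPullback t (pullback.fst g (r ≫ j))).paste_vert
          (IsPullback.of_hasPullback g (r ≫ j))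
        rw [show t ≫ g = f from f.toNormalization_fromNormalization] at e2
        exact GeometricallyConnected.geometrically_connectedSpace (f := f) _ _ _ e2
      haveI : ConnectedSpace ↥(pullback g (r ≫ j)) :=
        (pullback.snd t (pullback.fst g (r ≫ j))).surjective.connectedSpace
          (pullback.snd t (pullback.fst g (r ≫ j))).continuous
      exact subsingleton_of_isIntegralHom (pullback.snd g (r ≫ j))
    rw [← ha', ← hb']
    exact congrArg _ (e.isoPullback.hom.homeomorph.injective (Subsingleton.elim _ _))⟩
  exact UnivHomeo.isUnivHomeo_of_integral_univInjective_surjective g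

end Groth.Agent.EGA43.UnibranchFibre
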